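import Mathlib.RingTheory.Discriminant
import Mathlib.RingTheory.Artinian.Module
import Mathlib.RingTheory.IntegralClosure.IntegrallyClosed
import Mathlib.FieldTheory.IsAlgClosed.Basic
import Mathlib.LinearAlgebra.Matrix.Block
import Groth.Agent.CurvSt.K760.Iface

/-! Discriminants of finite covers with at most one double point in a fibre. -/

set_option autoImplicit false
set_option linter.unusedSimpArgs false
set_option linter.unusedSectionVars false
set_option linter.unusedVariables false

namespace K777.Disc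

open Module Matrix

section setup
variable {A C k F : Type*} [CommRing A] [CommRing C] [Algebra A C] [Field k] [CommRing F] [Algebra k F]
  {ι : Type*} [Fintype ι] [DecidableEq ι]

/-- reduction of an algebra modulo `π` -/
structure Red (π : A) (ρ : A →+* k) (σ : C →+* F) : Prop where
  ρ_surj : Function.Surjective ρ
  ρ_ker : ∀ a, ρ a = 0 ↔ π ∣ a
  σ_surj : Function.Surjective σ
  σ_ker : ∀ c, σ c = 0 ↔ algebraMap A C π ∣ c
  comp : ∀ a, σ (algebraMap A C a) = algebraMap k F (ρ a)

variable {π : A} {ρ : A →+* k} {σ : C →+* F}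

theorem Red.smul (h : Red π ρ σ) (a : A) (c : C) : σ (a • c) = ρ a • σ c := by
  rw [Algebra.smul_def, map_mul, h.comp, Algebra.smul_def]

/-- the reduction of a basis is a basis -/
theorem Red.exists_basis (h : Red π ρ σ) (β : Basis ι A C) :
    ∃ β' : Basis ι k F, (∀ i, β' i = σ (β i)) ∧ ∀ c i, β'.repr (σ c) i = ρ (β.repr c i) := by
  have hli : LinearIndependent k (fun i => σ (β i)) := by
    rw [Fintype.linearIndependent_iff]
    intro g hg i
    choose a ha using fun i => h.ρ_surj (g i)
    have h1 : σ (∑ i, a i • β i) = 0 := by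
      rw [map_sum, ← hg]
      exact Finset.sum_congr rfl fun i _ => by rw [h.smul, ha]
    rw [h.σ_ker] at h1
    obtain ⟨z, hz⟩ := h1
    have h2 : a i = π * β.repr z i := by
      have h3 := congrArg (fun w => β.repr w i) hz
      rw [← Algebra.smul_def, map_smul, Finsupp.smul_apply, smul_eq_mul] at h3
      rw [← h3]
      rw [β.repr_sum_self]
    rw [← ha i, h2, h.ρ_ker]
    exact dvd_mul_right _ _
  have hsp : ⊤ ≤ Submodule.span k (Set.range fun i => σ (β i)) := by
    rintro x -
    obtain ⟨c, rfl⟩ := h.σ_surj x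
    rw [← β.sum_repr c, map_sum]
    refine Submodule.sum_mem _ fun i _ => ?_
    rw [h.smul]
    exact Submodule.smul_mem _ _ (Submodule.subset_span ⟨i, rfl⟩)
  refine ⟨Basis.mk hli hsp, fun i => Basis.mk_apply _ _ _, fun c i => ?_⟩
  have h1 : σ c = ∑ j, ρ (β.repr c j) • (Basis.mk hli hsp) j := by
    conv_lhs => rw [← β.sum_repr c, map_sum]
    exact Finset.sum_congr rfl fun j _ => by rw [h.smul, Basis.mk_apply]
  rw [h1, Basis.repr_sum_self]

theorem Red.trace (h : Red π ρ σ) (β : Basis ι A C) (c : C) :
    Algebra.trace k F (σ c) = ρ (Algebra.trace A C c) := by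
  obtain ⟨β', h1, h2⟩ := h.exists_basis β
  rw [Algebra.trace_eq_matrix_trace β', Algebra.trace_eq_matrix_trace β, Matrix.trace, Matrix.trace, map_sum]
  refine Finset.sum_congr rfl fun i _ => ?_
  rw [Matrix.diag_apply, Matrix.diag_apply, Algebra.leftMulMatrix_eq_repr_mul, Algebra.leftMulMatrix_eq_repr_mul,
    h1, ← map_mul, h2]

theorem discr_dvd (β : Basis ι A C) (b : ι → C) : Algebra.discr A β ∣ Algebra.discr A b := by
  have h1 : (β : ι → C) ᵥ* (β.toMatrix b).map (algebraMap A C) = b := by
    ext j
    rw [Matrix.vecMul, dotProduct]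
    simp only [Matrix.map_apply, Basis.toMatrix_apply]
    conv_rhs => rw [← β.sum_repr (b j)]
    exact Finset.sum_congr rfl fun i _ => by rw [Algebra.smul_def, mul_comm]
  rw [← h1, Algebra.discr_of_matrix_vecMul]
  exact dvd_mul_left _ _

end setup

section chars
variable {k F : Type*} [Field k] [IsAlgClosed k] [CommRing F] [Algebra k F] [Module.Finite k F]

/-- the characters of a finite algebra -/
theorem exists_char (P : MaximalSpectrum F) : ∃ χ : F →ₐ[k] k, ∀ x, χ x = 0 ↔ x ∈ P.asIdeal := by
  have : P.asIdeal.IsMaximal := P.isMaximal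
  have hint : Algebra.IsIntegral k (F ⧸ P.asIdeal) := inferInstance
  have hb := IsAlgClosed.algebraMap_bijective_of_isIntegral (k := k) (K := F ⧸ P.asIdeal)
  let e : k ≃ₐ[k] (F ⧸ P.asIdeal) := AlgEquiv.ofBijective (Algebra.ofId k _) hb
  refine ⟨e.symm.toAlgHom.comp (Ideal.Quotient.mkₐ k P.asIdeal), fun x => ?_⟩
  show e.symm (Ideal.Quotient.mk _ x) = 0 ↔ _
  rw [EmbeddingLike.map_eq_zero_iff, Ideal.Quotient.eq_zero_iff_mem]

variable (k) in
include k in
theorem isNilpotent_iff (x : F) : IsNilpotent x ↔ ∀ P : MaximalSpectrum F, x ∈ P.asIdeal := by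
  have : IsArtinianRing F := IsArtinianRing.of_finite k F
  rw [← mem_nilradical, nilradical_eq_sInf, Submodule.mem_sInf]
  constructor
  · intro h P
    exact h _ P.isMaximal.isPrime
  · intro h J hJ
    have hJ' : Ideal.IsPrime J := hJ
    exact h ⟨J, IsArtinianRing.isMaximal_of_isPrime J⟩

theorem exists_idem [Finite (MaximalSpectrum F)] (P : MaximalSpectrum F) :
    ∃ x : F, x - 1 ∈ P.asIdeal ∧ ∀ Q : MaximalSpectrum F, Q ≠ P → x ∈ Q.asIdeal := by
  classical
  have hco : Pairwise fun (P Q : MaximalSpectrum F) => IsCoprime P.asIdeal Q.asIdeal := by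
    intro P Q hPQ
    rw [Ideal.isCoprime_iff_sup_eq]
    exact Ideal.IsMaximal.coprime_of_ne P.isMaximal Q.isMaximal (fun h => hPQ (MaximalSpectrum.ext h))
  obtain ⟨x, hx⟩ := (Ideal.quotientInfRingEquivPiQuotient (fun P : MaximalSpectrum F => P.asIdeal) hco).surjective
    (Pi.single P 1)
  obtain ⟨x, rfl⟩ := Ideal.Quotient.mk_surjective x
  refine ⟨x, ?_, fun Q hQ => ?_⟩
  · have := congrFun hx P
    rw [Pi.single_eq_same] at this
    rw [← Ideal.Quotient.eq_zero_iff_mem, map_sub, map_one, sub_eq_zero]
    exact this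
  · have := congrFun hx Q
    rw [Pi.single_eq_of_ne hQ] at this
    rw [← Ideal.Quotient.eq_zero_iff_mem]
    exact this

end chars

section main
variable {A C k F : Type*} [CommRing A] [IsDomain A] [CommRing C] [IsDomain C] [IsIntegrallyClosed C] [Algebra A C]
  [Field k] [IsAlgClosed k] [CommRing F] [Algebra k F] {ι : Type*} [Fintype ι] [DecidableEq ι]
  {π : A} {ρ : A →+* k} {σ : C →+* F}

theorem monic_aux (a w : C) :
    (Polynomial.X ^ 2 - (Polynomial.C a * Polynomial.X + Polynomial.C w)).Monic :=
  Polynomial.monic_X_pow_sub (Polynomial.degree_linear_lt)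

theorem exists_quot_aux (K : Type*) [Field K] [Algebra C K] [IsFractionRing C K] {p b a w : C} (hp : p ≠ 0)
    (h : b ^ 2 = p * (a * b + p * w)) : p ∣ b := by
  have hp' : algebraMap C K p ≠ 0 := by
    rw [Ne, map_eq_zero_iff _ (IsFractionRing.injective C K)]; exact hp
  have h1 : (algebraMap C K b) ^ 2 =
      algebraMap C K p * (algebraMap C K a * algebraMap C K b + algebraMap C K p * algebraMap C K w) := by
    rw [← map_pow, h]
    simp only [map_mul, map_add]
  have hint : IsIntegral C (algebraMap C K b / algebraMap C K p) := by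
    refine ⟨_, monic_aux a w, ?_⟩
    rw [Polynomial.eval₂_sub, Polynomial.eval₂_add, Polynomial.eval₂_mul, Polynomial.eval₂_pow, Polynomial.eval₂_X,
        Polynomial.eval₂_C, Polynomial.eval₂_C, div_pow, h1]
    have : ∀ P a' b' w' : K, P ≠ 0 → P * (a' * b' + P * w') / P ^ 2 = a' * (b' / P) + w' := by
      intro P a' b' w' h
      field_simp
    rw [this _ _ _ _ hp', sub_self]
  obtain ⟨q, hq⟩ := IsIntegrallyClosed.isIntegral_iff.mp hint
  refine ⟨q, IsFractionRing.injective C K ?_⟩
  rw [map_mul, hq, mul_div_cancel₀ _ hp']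

theorem exists_quot_of_sq {p b a w : C} (hp : p ≠ 0) (h : b ^ 2 = p * (a * b + p * w)) : p ∣ b :=
  exists_quot_aux (FractionRing C) hp h

theorem discr_reindex' {ι' : Type*} [Fintype ι'] [DecidableEq ι'] (b : ι' → C) (e : ι ≃ ι') :
    Algebra.discr A (b ∘ e) = Algebra.discr A b := by
  rw [Algebra.discr_def, Algebra.discr_def, ← Matrix.det_submatrix_equiv_self e (Algebra.traceMatrix A b)]
  rfl

/-- the discriminant is not divisible by the square of `π` if the fibre has at most one double point -/
theorem key (h : Red π ρ σ) (β : Basis ι A C) (h2 : (2 : k) ≠ 0) (hπ0 : π ≠ 0) (hπ : algebraMap A C π ≠ 0)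
    {R' : Type*} [CommRing R'] [Algebra k R'] (τ : F →ₐ[k] R') (hτs : Function.Surjective τ)
    (hτ : ∀ x, τ x = 0 ↔ IsNilpotent x) (hdim : finrank k F ≤ finrank k R' + 1) :
    ¬ π ^ 2 ∣ Algebra.discr A β := by
  classical
  obtain ⟨β', hβ1, hβ2⟩ := h.exists_basis β
  have hfin : Module.Finite k F := Module.Finite.of_basis β'
  have hart : IsArtinianRing F := IsArtinianRing.of_finite k F
  let m := MaximalSpectrum F
  have hm : Fintype m := Fintype.ofFinite m
  choose χ hχ using fun P : m => exists_char (k := k) P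
  choose ε hε1 hε2 using fun P : m => exists_idem P
  have hχε : ∀ P Q : m, χ Q (ε P) = if P = Q then 1 else 0 := by
    intro P Q
    by_cases hPQ : P = Q
    · subst hPQ
      rw [if_pos rfl]
      have := (hχ P (ε P - 1)).mpr (hε1 P)
      rwa [map_sub, map_one, sub_eq_zero] at this
    · rw [if_neg hPQ]
      exact (hχ Q _).mpr (hε2 P Q (Ne.symm hPQ))
  have hsub : ∀ (P : m) (x : F), x - algebraMap k F (χ P x) ∈ P.asIdeal := by
    intro P x
    rw [← hχ, map_sub, AlgHom.commutes, Algebra.algebraMap_self, RingHom.id_apply, sub_self]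
  let X : F →ₗ[k] (m → k) := LinearMap.pi fun P => (χ P).toLinearMap
  have hX : ∀ x P, X x P = χ P x := fun x P => rfl
  have hXk : ∀ x, X x = 0 ↔ IsNilpotent x := by
    intro x
    rw [isNilpotent_iff k, funext_iff]
    exact forall_congr' fun P => hχ P x
  have hXs : Function.Surjective X := by
    intro f
    refine ⟨∑ P, f P • ε P, ?_⟩
    ext Q
    rw [hX, map_sum]
    simp only [map_smul, hχε, smul_eq_mul, mul_ite, mul_one, mul_zero]
    rw [Finset.sum_ite_eq' Finset.univ Q, if_pos (Finset.mem_univ _)]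
  have hker : LinearMap.ker X = LinearMap.ker τ.toLinearMap := by
    ext x
    rw [LinearMap.mem_ker, LinearMap.mem_ker, hXk, ← hτ]
    rfl
  have hd1 : finrank k F = Fintype.card m + finrank k (LinearMap.ker X) := by
    rw [← LinearMap.finrank_range_add_finrank_ker X, LinearMap.range_eq_top.mpr hXs, finrank_top,
      Module.finrank_fintype_fun_eq_card]
  have hd2 : finrank k F = finrank k R' + finrank k (LinearMap.ker X) := by
    rw [hker, ← LinearMap.finrank_range_add_finrank_ker τ.toLinearMap,
      LinearMap.range_eq_top.mpr (show Function.Surjective τ.toLinearMap from hτs), finrank_top]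
  have hle : finrank k (LinearMap.ker X) ≤ 1 := by omega
  have hXε : ∀ x : F, x - ∑ P, χ P x • ε P ∈ LinearMap.ker X := by
    intro x
    rw [LinearMap.mem_ker]
    ext Q
    rw [hX, map_sub, map_sum]
    simp only [map_smul, hχε, smul_eq_mul, mul_ite, mul_one, mul_zero]
    rw [Finset.sum_ite_eq' Finset.univ Q, if_pos (Finset.mem_univ _), sub_self]
    rfl
  have hcard : Fintype.card ι = finrank k F := (Module.finrank_eq_card_basis β').symm
  choose b hb using fun P : m => h.σ_surj (ε P)
  rcases Nat.le_one_iff_eq_zero_or_eq_one.mp hle with h0 | h1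
  · -- reduced fibre
    rw [Submodule.finrank_eq_zero] at h0
    have hinj : Function.Injective X := LinearMap.ker_eq_bot.mp h0
    let E : Basis m k F := Basis.ofEquivFun (LinearEquiv.ofBijective X ⟨hinj, hXs⟩)
    have hE : ∀ x P, E.repr x P = χ P x := fun x P => by
      rw [Basis.ofEquivFun_repr_apply]; rfl
    have hEε : ∀ P, E P = ε P := by
      intro P
      apply E.repr.injective
      rw [E.repr_self]
      ext Q
      rw [hE, hχε, Finsupp.single_apply]
    have htr : ∀ y, Algebra.trace k F y = ∑ P, χ P y := by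
      intro y
      rw [Algebra.trace_eq_matrix_trace E, Matrix.trace]
      refine Finset.sum_congr rfl fun P _ => ?_
      rw [Matrix.diag_apply, Algebra.leftMulMatrix_eq_repr_mul, hE, hEε, map_mul, hχε, if_pos rfl, mul_one]
    have e : ι ≃ m := Fintype.equivOfCardEq (by
      rw [hcard, Module.finrank_eq_card_basis E])
    intro hdvd
    have h3 : π ∣ Algebra.discr A b := by
      rw [← discr_reindex' b e]
      exact ((dvd_pow_self π two_ne_zero).trans hdvd).trans (discr_dvd β _)
    rw [← h.ρ_ker, Algebra.discr_def, RingHom.map_det] at h3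
    have h4 : ρ.mapMatrix (Algebra.traceMatrix A b) = 1 := by
      ext P Q
      rw [RingHom.mapMatrix_apply, Matrix.map_apply, Algebra.traceMatrix_apply, Algebra.traceForm_apply,
        ← h.trace β, map_mul, hb, hb, htr]
      simp only [map_mul, hχε, ite_mul, one_mul, zero_mul, Matrix.one_apply]
      rw [Finset.sum_ite_eq Finset.univ P, if_pos (Finset.mem_univ _)]
      simp only [eq_comm]
    rw [h4, Matrix.det_one] at h3
    exact one_ne_zero h3
  · -- one double point
    obtain ⟨⟨ν, hνk⟩, hν0, hν⟩ := finrank_eq_one_iff'.mp h1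
    have hν0' : ν ≠ 0 := fun h => hν0 (Subtype.ext h)
    have hν' : ∀ w ∈ LinearMap.ker X, ∃ c : k, c • ν = w := fun w hw => by
      obtain ⟨c, hc⟩ := hν ⟨w, hw⟩
      exact ⟨c, congrArg Subtype.val hc⟩
    have hνnil : IsNilpotent ν := (hXk ν).mp hνk
    have hmulν : ∀ y, y * ν ∈ LinearMap.ker X := by
      intro y
      rw [LinearMap.mem_ker, hXk]
      exact (Commute.all y ν).isNilpotent_mul_left hνnil
    have hχν : ∀ P, χ P ν = 0 := fun P => by
      have := congrFun (LinearMap.mem_ker.mp hνk) P
      exact this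
    -- the double point
    let I0 : Ideal F := Ideal.span {x | x * ν = 0}
    have hI0 : ∀ x, x ∈ I0 → x * ν = 0 := by
      intro x hx
      induction hx using Submodule.span_induction with
      | mem x hx => exact hx
      | zero => rw [zero_mul]
      | add x y _ _ hx hy => rw [add_mul, hx, hy, add_zero]
      | smul a x _ hx => rw [smul_eq_mul, mul_assoc, hx, mul_zero]
    have hI0' : I0 ≠ ⊤ := by
      intro htop
      have := hI0 1 (htop ▸ trivial)
      rw [one_mul] at this
      exact hν0' this
    obtain ⟨M, hM, hI0M⟩ := Ideal.exists_le_maximal I0 hI0'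
    let P0 : m := ⟨M, hM⟩
    have hP0 : ∀ x ∈ P0.asIdeal, x * ν = 0 := by
      intro x hx
      obtain ⟨c, hc⟩ := hν' _ (hmulν x)
      have h3 : x - algebraMap k F c ∈ I0 := Ideal.subset_span (by
        rw [Set.mem_ofPred_eq, sub_mul, ← Algebra.smul_def, hc, sub_self])
      have h4 : algebraMap k F c ∈ P0.asIdeal := by
        have := P0.asIdeal.sub_mem hx (hI0M h3)
        rwa [sub_sub_cancel] at this
      rw [← hχ, AlgHom.commutes, Algebra.algebraMap_self, RingHom.id_apply] at h4
      rw [← hc, h4, zero_smul]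
    have hact : ∀ y, y * ν = χ P0 y • ν := by
      intro y
      have := hP0 _ (hsub P0 y)
      rw [sub_mul, sub_eq_zero, ← Algebra.smul_def] at this
      exact this
    -- the basis
    have hE0 : ∀ (g : m → k) (c : k), (∑ P, g P • ε P) + c • ν = 0 → (∀ P, g P = 0) ∧ c = 0 := by
      intro g c hg
      have h3 : ∀ P, g P = 0 := by
        intro P
        have := congrArg (χ P) hg
        rw [map_add, map_sum, map_smul, hχν, smul_zero, add_zero, map_zero] at this
        simp only [map_smul, hχε, smul_eq_mul, mul_ite, mul_one, mul_zero] at this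
        rwa [Finset.sum_ite_eq' Finset.univ P, if_pos (Finset.mem_univ _)] at this
      refine ⟨h3, ?_⟩
      rw [Finset.sum_eq_zero (fun P _ => by rw [h3 P, zero_smul]), zero_add, smul_eq_zero] at hg
      exact hg.resolve_right hν0'
    have hli : LinearIndependent k (Sum.elim ε (fun _ : Unit => ν)) := by
      rw [Fintype.linearIndependent_iff]
      intro g hg
      rw [Fintype.sum_sum_type] at hg
      simp only [Sum.elim_inl, Sum.elim_inr, Fintype.sum_unique] at hg
      obtain ⟨h3, h4⟩ := hE0 (fun P => g (Sum.inl P)) (g (Sum.inr ())) hg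
      rintro (P | ⟨⟩)
      · exact h3 P
      · exact h4
    have hcardE : Fintype.card (m ⊕ Unit) = finrank k F := by
      rw [Fintype.card_sum, Fintype.card_unit, hd1, h1]
    have hne : Nonempty (m ⊕ Unit) := ⟨Sum.inr ()⟩
    let E : Basis (m ⊕ Unit) k F := basisOfLinearIndependentOfCardEqFinrank hli hcardE
    have hEb : ∀ i, E i = Sum.elim ε (fun _ : Unit => ν) i := fun i => by
      rw [coe_basisOfLinearIndependentOfCardEqFinrank]
    have hErep : ∀ x, ∃ c : k, x = ∑ P, χ P x • ε P + c • ν := by
      intro x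
      obtain ⟨c, hc⟩ := hν' _ (hXε x)
      exact ⟨c, by rw [hc]; abel⟩
    have hEinl : ∀ x P, E.repr x (Sum.inl P) = χ P x := by
      intro x P
      obtain ⟨c, hc⟩ := hErep x
      have h3 : x = ∑ i, (Sum.elim (fun P => χ P x) (fun _ => c) i) • E i := by
        rw [Fintype.sum_sum_type]
        simp only [hEb, Sum.elim_inl, Sum.elim_inr, Fintype.sum_unique]
        exact hc
      have h4 := congrArg (fun w => E.repr w (Sum.inl P)) h3
      rw [E.repr_sum_self] at h4
      exact h4
    have htr : ∀ y, Algebra.trace k F y = ∑ P, χ P y + χ P0 y := by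
      intro y
      rw [Algebra.trace_eq_matrix_trace E, Matrix.trace, Fintype.sum_sum_type]
      simp only [Matrix.diag_apply, Algebra.leftMulMatrix_eq_repr_mul, Fintype.sum_unique, hEinl, hEb, Sum.elim_inl]
      congr 1
      · refine Finset.sum_congr rfl fun P _ => ?_
        rw [map_mul, hχε, if_pos rfl, mul_one]
      · rw [Sum.elim_inr, hact, map_smul]
        have : E.repr ν = Finsupp.single (Sum.inr ()) 1 := by
          rw [← E.repr_self, hEb]; rfl
        rw [show (default : Unit) = () from rfl, this, Finsupp.smul_apply, Finsupp.single_eq_same, smul_eq_mul, mul_one]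
    -- lifts
    obtain ⟨bν, hbν⟩ := h.σ_surj ν
    have hν2 : ν * ν = 0 := by rw [hact, hχν, zero_smul]
    obtain ⟨y0, hy0⟩ := (h.σ_ker (bν * bν)).mp (by rw [map_mul, hbν, hν2])
    have hcross : ∀ P, ∃ s : A, Algebra.trace A C (bν * b P) = π * s := by
      intro P
      have : ρ (Algebra.trace A C (bν * b P)) = 0 := by
        rw [← h.trace β, map_mul, hbν, hb, htr]
        simp only [map_mul, hχν, zero_mul, Finset.sum_const_zero, add_zero]
      exact (h.ρ_ker _).mp this
    choose s hs using hcross
    have hnn : Algebra.trace A C (bν * bν) = π * Algebra.trace A C y0 := by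
      rw [hy0, ← Algebra.smul_def, map_smul, smul_eq_mul]
    -- `χ P y0 = 0` for `P ≠ P0`
    have hy1 : ∀ P, P ≠ P0 → χ P (σ y0) = 0 := by
      intro P hP
      obtain ⟨z, hz⟩ := (h.σ_ker (b P * bν)).mp (by
        rw [map_mul, hb, hbν, hact, hχε, if_neg hP, zero_smul])
      have h3 : algebraMap A C π * (b P ^ 2 * y0) = algebraMap A C π * (algebraMap A C π * z ^ 2) := by
        have : (b P * bν) ^ 2 = (algebraMap A C π * z) ^ 2 := by rw [hz]
        have h5 : (b P * bν) ^ 2 = b P ^ 2 * (bν * bν) := by ring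
        rw [h5, hy0] at this
        linear_combination this
      have h4 := mul_left_cancel₀ hπ h3
      have h5 := congrArg (fun w => χ P (σ w)) h4
      simp only [map_mul, map_pow, hb, hχε, h.comp] at h5
      have h6 : ρ π = 0 := (h.ρ_ker π).mpr dvd_rfl
      rw [h6] at h5
      simpa using h5
    have hy2 : χ P0 (σ y0) ≠ 0 := by
      intro h0
      have h3 : σ y0 ∈ LinearMap.ker X := by
        rw [LinearMap.mem_ker]
        ext P
        rw [hX]
        by_cases hP : P = P0
        · subst hP; exact h0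
        · exact hy1 P hP
      obtain ⟨a, ha⟩ := hν' _ h3
      obtain ⟨a', rfl⟩ := h.ρ_surj a
      obtain ⟨w, hw⟩ := (h.σ_ker (y0 - algebraMap A C a' * bν)).mp (by
        rw [map_sub, ← ha, map_mul, h.comp, hbν, Algebra.smul_def, sub_self])
      have h5 : bν ^ 2 = algebraMap A C π * (algebraMap A C a' * bν + algebraMap A C π * w) := by
        rw [← hw, pow_two, hy0]; ring
      have h6 := exists_quot_of_sq hπ h5
      rw [← h.σ_ker, hbν] at h6
      exact hν0' h6
    have htry : Algebra.trace k F (σ y0) ≠ 0 := by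
      rw [htr, Finset.sum_eq_single P0 (fun P _ hP => hy1 P hP) (fun h => absurd (Finset.mem_univ _) h), ← two_mul]
      exact mul_ne_zero h2 hy2
    -- the determinant
    let bb : m ⊕ Unit → C := Sum.elim b (fun _ => bν)
    have e : ι ≃ m ⊕ Unit := Fintype.equivOfCardEq (by rw [hcard, hcardE])
    let D : Matrix m m A := fun P Q => Algebra.trace A C (b P * b Q)
    let cl : Matrix m Unit A := fun P _ => Algebra.trace A C (b P * bν)
    let rw' : Matrix Unit m A := fun _ Q => s Q
    let ww : Matrix Unit Unit A := fun _ _ => Algebra.trace A C y0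
    let T' : Matrix (m ⊕ Unit) (m ⊕ Unit) A := Matrix.fromBlocks D cl rw' ww
    have hT : Algebra.traceMatrix A bb =
        Matrix.fromBlocks (1 : Matrix m m A) 0 0 (fun _ _ => π) * T' := by
      rw [Matrix.fromBlocks_multiply]
      ext (P | ⟨⟩) (Q | ⟨⟩)
      · simp only [Matrix.fromBlocks_apply₁₁, Algebra.traceMatrix_apply, Algebra.traceForm_apply, Matrix.one_mul,
          Matrix.zero_mul, add_zero]
        rfl
      · simp only [Matrix.fromBlocks_apply₁₂, Algebra.traceMatrix_apply, Algebra.traceForm_apply, Matrix.one_mul,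
          Matrix.zero_mul, add_zero]
        rfl
      · simp only [Matrix.fromBlocks_apply₂₁, Algebra.traceMatrix_apply, Algebra.traceForm_apply,
          Matrix.zero_mul, zero_add, Matrix.mul_apply, Fintype.sum_unique]
        exact hs Q
      · simp only [Matrix.fromBlocks_apply₂₂, Algebra.traceMatrix_apply, Algebra.traceForm_apply,
          Matrix.zero_mul, zero_add, Matrix.mul_apply, Fintype.sum_unique]
        exact hnn
    have hdet : Algebra.discr A bb = π * T'.det := by
      rw [Algebra.discr_def, hT, Matrix.det_mul, Matrix.det_fromBlocks_zero₁₂, Matrix.det_one, one_mul,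
        Matrix.det_unique]
    intro hdvd
    have h3 : π * π ∣ π * T'.det := by
      rw [← hdet, ← pow_two, ← discr_reindex' bb e]
      exact hdvd.trans (discr_dvd β _)
    have h4 : π ∣ T'.det := (mul_dvd_mul_iff_left hπ0).mp h3
    rw [← h.ρ_ker, RingHom.map_det] at h4
    have h5 : ρ.mapMatrix T' = Matrix.fromBlocks (Matrix.diagonal fun P => if P = P0 then (2 : k) else 1) 0
        (ρ.mapMatrix T').toBlocks₂₁ (fun _ _ => Algebra.trace k F (σ y0)) := by
      ext (P | ⟨⟩) (Q | ⟨⟩)
      · show ρ (Algebra.trace A C (b P * b Q)) = Matrix.diagonal (fun P => if P = P0 then (2 : k) else 1) P Q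
        rw [Matrix.diagonal_apply, ← h.trace β, map_mul, hb, hb, htr]
        simp only [map_mul, hχε, ite_mul, one_mul, zero_mul]
        rw [Finset.sum_ite_eq Finset.univ P, if_pos (Finset.mem_univ _)]
        by_cases hPQ : P = Q
        · subst hPQ
          simp only [if_true]
          by_cases hP : P = P0
          · simp only [hP, if_true]; norm_num
          · simp only [hP, if_false, add_zero]
        · rw [if_neg hPQ, if_neg (Ne.symm hPQ)]
          by_cases hP : P = P0
          · rw [if_pos hP, if_neg (fun h => hPQ (hP.trans h.symm)), add_zero]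
          · rw [if_neg hP, add_zero]
      · show ρ (Algebra.trace A C (b P * bν)) = 0
        rw [mul_comm, hs, map_mul, (h.ρ_ker π).mpr dvd_rfl, zero_mul]
      · rfl
      · exact (h.trace β y0).symm
    rw [h5, Matrix.det_fromBlocks_zero₁₂, Matrix.det_diagonal, Matrix.det_unique, mul_eq_zero] at h4
    rcases h4 with h4 | h4
    · rw [Finset.prod_eq_zero_iff] at h4
      obtain ⟨P, -, hP⟩ := h4
      by_cases hPP : P = P0
      · rw [if_pos hPP] at hP; exact h2 hP
      · rw [if_neg hPP] at hP; exact one_ne_zero hP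
    · exact htry h4

end main

section final
open Polynomial
universe u

variable (k : Type u) [Field k] [IsAlgClosed k] [CharZero k] (C : Type u) [CommRing C] [IsDomain C]
    [IsIntegrallyClosed C] [Algebra k C] [Algebra k[X] C] [IsScalarTower k k[X] C] [Module.Finite k[X] C]
    [Module.Free k[X] C]

theorem red (c : k) : Red (X - Polynomial.C c : k[X]) (Polynomial.evalRingHom c)
    (Ideal.Quotient.mk (Ideal.span {algebraMap k[X] C (X - Polynomial.C c)})) where
  ρ_surj a := ⟨Polynomial.C a, by simp⟩
  ρ_ker a := by rw [Polynomial.dvd_iff_isRoot]; rfl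
  σ_surj := Ideal.Quotient.mk_surjective
  σ_ker a := by rw [Ideal.Quotient.eq_zero_iff_mem, Ideal.mem_span_singleton]
  comp a := by
    have h1 : (X - Polynomial.C c : k[X]) ∣ a - Polynomial.C (a.eval c) := by
      rw [Polynomial.dvd_iff_isRoot, Polynomial.IsRoot, Polynomial.eval_sub, Polynomial.eval_C, sub_self]
    have h2 : algebraMap k (C ⧸ Ideal.span {algebraMap k[X] C (X - Polynomial.C c)}) (a.eval c) =
        Ideal.Quotient.mk _ (algebraMap k[X] C (Polynomial.C (a.eval c))) := by
      rw [← Polynomial.algebraMap_eq, ← IsScalarTower.algebraMap_apply]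
      rfl
    rw [Polynomial.coe_evalRingHom, h2, ← sub_eq_zero, ← map_sub, ← map_sub, Ideal.Quotient.eq_zero_iff_mem,
      Ideal.mem_span_singleton]
    exact map_dvd _ h1

theorem not_sq_dvd (c : k)
    (h : Module.finrank k (C ⧸ Ideal.span {algebraMap k[X] C (Polynomial.X - Polynomial.C c)}) ≤
      Module.finrank k (C ⧸ (Ideal.span {algebraMap k[X] C (Polynomial.X - Polynomial.C c)}).radical) + 1) :
    ¬ (X - Polynomial.C c : k[X]) ^ 2 ∣ Algebra.discr k[X] (Module.Free.chooseBasis k[X] C) := by
  have hinj : Function.Injective (algebraMap k[X] C) := FaithfulSMul.algebraMap_injective _ _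
  have hπ0 : (X - Polynomial.C c : k[X]) ≠ 0 := Polynomial.X_sub_C_ne_zero c
  refine key (red k C c) (Module.Free.chooseBasis k[X] C) two_ne_zero hπ0
    (by rw [Ne, map_eq_zero_iff _ hinj]; exact hπ0)
    (Ideal.Quotient.factorₐ k Ideal.le_radical) (Ideal.Quotient.factor_surjective Ideal.le_radical) ?_ h
  intro x
  obtain ⟨x, rfl⟩ := Ideal.Quotient.mk_surjective x
  show Ideal.Quotient.mk _ x = 0 ↔ _
  rw [Ideal.Quotient.eq_zero_iff_mem]
  constructor
  · rintro ⟨n, hn⟩
    exact ⟨n, by rw [← map_pow, Ideal.Quotient.eq_zero_iff_mem]; exact hn⟩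
  · rintro ⟨n, hn⟩
    exact ⟨n, by rw [← map_pow, Ideal.Quotient.eq_zero_iff_mem] at hn; exact hn⟩

theorem main : K760.Hurw.DiscStmt.{u} := by
  intro k _ _ _ C _ _ _ _ _ _ _ _ h x hx
  by_cases hx0 : x = 0
  · subst hx0
    rw [mul_zero, zero_dvd_iff] at hx
    exact absurd (hx ▸ dvd_zero _) (not_sq_dvd k C 0 (h 0))
  by_contra hu
  have hdeg : x.degree ≠ 0 := by
    intro h0
    exact hu (Polynomial.isUnit_iff_degree_eq_zero.mpr h0)
  obtain ⟨c, hc⟩ := IsAlgClosed.exists_root x hdeg
  rw [← Polynomial.dvd_iff_isRoot] at hc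
  exact not_sq_dvd k C c (h c) ((pow_two (X - Polynomial.C c : k[X]) ▸ mul_dvd_mul hc hc).trans hx)

end final

end K777.Disc
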